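import Mathlib

/-!
Sylow intersections in quotient groups.
-/

namespace Cfsg.Agent.Lib.SylowIntersection

variable {G : Type*} [Group G] [Finite G] {p : ℕ} [Fact p.Prime]

/-- A `p`-subgroup inside the preimage of a Sylow subgroup of `G ⧸ H` lies in a Sylow
subgroup of `G` with image that Sylow subgroup. -/
theorem exists_sylow_map_eq (H : Subgroup G) [H.Normal] (S : Sylow p (G ⧸ H)) (R : Subgroup G)
    (hR : IsPGroup p R) (hRS : R.map (QuotientGroup.mk' H) ≤ S) :
    ∃ S' : Sylow p G, R ≤ S' ∧ (S' : Subgroup G).map (QuotientGroup.mk' H) = S := by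
  set f := QuotientGroup.mk' H
  have hf : Function.Surjective f := QuotientGroup.mk'_surjective H
  set A := (S : Subgroup (G ⧸ H)).comap f
  have hRA : R ≤ A := Subgroup.map_le_iff_le_comap.1 hRS
  obtain ⟨P, hP⟩ := (hR.of_equiv (Subgroup.subgroupOfEquivOfLe hRA).symm).exists_le_sylow
  have hidx : ¬ p ∣ ((P : Subgroup A).map A.subtype).index := by
    rw [Subgroup.index_map_subtype, Subgroup.index_comap_of_surjective _ hf]
    intro hd
    rcases (Nat.Prime.dvd_mul Fact.out).1 hd with h | h
    · exact P.not_dvd_index h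
    · exact S.not_dvd_index h
  refine ⟨(P.2.map A.subtype).toSylow hidx, ?_, ?_⟩
  · intro a ha
    rw [IsPGroup.toSylow_coe]
    exact ⟨⟨a, hRA ha⟩, hP (Subgroup.mem_subgroupOf.2 ha), rfl⟩
  · have hle : ((P : Subgroup A).map A.subtype).map f ≤ S :=
      Subgroup.map_le_iff_le_comap.2 (Subgroup.map_subtype_le _)
    rw [IsPGroup.toSylow_coe]
    have hsyl : ¬ p ∣ (((P : Subgroup A).map A.subtype).map f).index := fun hd =>
      hidx (hd.trans (Subgroup.index_map_dvd _ hf))
    exact (((P.2.map A.subtype).map f).toSylow hsyl).3 S.2 hle |>.symm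

/-- Every intersection of two distinct Sylow subgroups of a quotient is the image of a subgroup
of an intersection of two distinct Sylow subgroups of the group. -/
theorem exists_sylow_inter (H : Subgroup G) [H.Normal] (S T : Sylow p (G ⧸ H)) (hne : S ≠ T) :
    ∃ S' T' : Sylow p G, S' ≠ T' ∧ ∃ R : Subgroup G, R ≤ (S' : Subgroup G) ⊓ T' ∧
      R.map (QuotientGroup.mk' H) = (S : Subgroup (G ⧸ H)) ⊓ T := by
  set f := QuotientGroup.mk' H
  have hf : Function.Surjective f := QuotientGroup.mk'_surjective H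
  set K := ((S : Subgroup (G ⧸ H)) ⊓ T).comap f
  obtain ⟨P⟩ : Nonempty (Sylow p K) := inferInstance
  set R := (P : Subgroup K).map K.subtype
  have hRp : IsPGroup p R := P.2.map _
  have hRle : R.map f ≤ (S : Subgroup (G ⧸ H)) ⊓ T :=
    Subgroup.map_le_iff_le_comap.2 (Subgroup.map_subtype_le _)
  obtain ⟨S', hS', hSm⟩ := exists_sylow_map_eq H S R hRp (hRle.trans inf_le_left)
  obtain ⟨T', hT', hTm⟩ := exists_sylow_map_eq H T R hRp (hRle.trans inf_le_right)
  refine ⟨S', T', ?_, R, le_inf hS' hT', le_antisymm hRle ?_⟩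
  · rintro rfl
    exact hne (Sylow.ext (hSm.symm.trans hTm))
  · rw [← Subgroup.relIndex_eq_one]
    set J := (S : Subgroup (G ⧸ H)) ⊓ T with hJ
    have hJp : IsPGroup p J := S.2.to_le inf_le_left
    obtain ⟨k, hk⟩ := IsPGroup.iff_card.1 hJp
    have h1 : (R.map f).relIndex J ∣ p ^ k := hk ▸ Subgroup.relIndex_dvd_card _ _
    obtain ⟨i, _, hi⟩ := (Nat.dvd_prime_pow Fact.out).1 h1
    rcases i with _ | i
    · simpa using hi
    · exfalso
      apply P.not_dvd_index
      have h2 : (R.map f).relIndex J ∣ R.relIndex K := by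
        have h3 : ((R.map f).comap f).relIndex K = (R.map f).relIndex J := by
          rw [Subgroup.relIndex_comap, Subgroup.map_comap_eq_self_of_surjective hf]
        rw [← h3]
        exact Subgroup.relIndex_dvd_of_le_left K (Subgroup.le_comap_map f R)
      have h4 : R.relIndex K = (P : Subgroup K).index := by
        rw [Subgroup.relIndex, Subgroup.subgroupOf,
          Subgroup.comap_map_eq_self_of_injective K.subtype_injective]
      exact (dvd_pow_self p (Nat.succ_ne_zero i)).trans ((hi ▸ h2).trans h4.dvd)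

theorem isCyclic_inter_quotient
    (hC : ∀ S T : Sylow p G, S ≠ T → IsCyclic ↥((S : Subgroup G) ⊓ (T : Subgroup G)))
    (H : Subgroup G) [H.Normal] (S T : Sylow p (G ⧸ H)) (hne : S ≠ T) :
    IsCyclic ↥((S : Subgroup (G ⧸ H)) ⊓ (T : Subgroup (G ⧸ H))) := by
  obtain ⟨S', T', hne', R, hR, hRm⟩ := exists_sylow_inter H S T hne
  rw [← hRm]
  haveI := hC S' T' hne'
  haveI := isCyclic_of_injective (Subgroup.inclusion hR) (Subgroup.inclusion_injective _)
  exact isCyclic_of_surjective _ ((QuotientGroup.mk' H).subgroupMap_surjective R)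

end Cfsg.Agent.Lib.SylowIntersection
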